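import Cfsg.Agent.CosetCert.ThChain3.FactsData
import Cfsg.Agent.CosetCert.ThChain3.JustData
import Cfsg.Agent.CosetCert.ThChain3.TableData
import Cfsg.Prelude.Def_Spor_Th
import Cfsg.Agent.CosetCert.CoxExtra
import Cfsg.Agent.CosetCert.Pack

/-! Generated: the certificate. -/

set_option maxRecDepth 100000

namespace Cfsg.Agent.CosetCert.ThChain3

noncomputable def data : Data where
  K := 10
  n := 12096
  M := 15349
  Nf := 74981
  nR := 25
  iv := fun x => if x < 5 then x + 5 else if x < 10 then x - 5 else x
  F := get48 factStore
  J := getVar justStore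
  E := get48 edgeStore
  L := get48 repStore
  P := get48 treeStore
  W := [
    [0, 0],
    [1, 1],
    [2, 2],
    [3, 3],
    [4, 4],
    [0, 1, 0, 1, 0, 1],
    [0, 4, 0, 4],
    [1, 2, 1, 2, 1, 2],
    [1, 3, 1, 3],
    [1, 4, 1, 4],
    [0, 8, 7, 8, 7, 8, 7, 8, 7],
    [2, 4, 2, 4],
    [3, 4, 3, 4, 3, 4],
    [1, 2, 3, 4, 1, 2, 3, 4, 1, 2, 3, 4, 1, 2, 3, 4, 1, 2, 3, 4, 1, 2, 3, 4, 1, 2, 3, 4, 1, 2, 3, 4],
    [],
    [0, 5],
    [1, 6],
    [2, 7],
    [3, 8],
    [4, 9],
    [5, 0],
    [6, 1],
    [7, 2],
    [8, 3],
    [9, 4]]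
  PW := fun k => Nat.land (Nat.shiftRight 0xaa0000000000000000000000000000000000000224000000000000000000000000000000000000068000000000000000000000000000000000000011c0000000000000000000000000000000000000260000000000000000000000000000000000000514000000000000000000000000000000000000124000000000000000000000000000000000000040c0000000000000000000000000000000000000e20000000000000000000000000000000000000304000000000000000000000000000000000000000a4188a4188a4188a4188a4188a4188a4188a418800000000000000000000000000000000a4290a400000000000000000000000000000000000a328c000000000000000000000000000084a1284a12100000000000000000000000000000000000a228800000000000000000000000000000000002088200000000000000000000000000000000188621880000000000000000000000000000000000284a100000000000000000000000000000000104411040000000000000000000000000000000000000a500000000000000000000000000000000000002100000000000000000000000000000000000000630000000000000000000000000000000000000108000000000000000000000000000000000000021 (Nat.mul 158 k)) 0x3fffffffffffffffffffffffffffffffffffffff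
  powers := [
    ([0, 0], 1),
    ([1, 1], 1),
    ([2, 2], 1),
    ([3, 3], 1),
    ([4, 4], 1),
    ([0, 1, 0, 1, 0, 1], 1),
    ([0, 4, 0, 4], 1),
    ([1, 2, 1, 2, 1, 2], 1),
    ([1, 3, 1, 3], 1),
    ([1, 4, 1, 4], 1),
    ([0, 8, 7, 8, 7, 8, 7, 8, 7], 1),
    ([2, 4, 2, 4], 1),
    ([3, 4, 3, 4, 3, 4], 1),
    ([1, 2, 3, 4, 1, 2, 3, 4, 1, 2, 3, 4, 1, 2, 3, 4, 1, 2, 3, 4, 1, 2, 3, 4, 1, 2, 3, 4, 1, 2, 3, 4], 1),
    ([], 1),
    ([0, 5], 1),
    ([1, 6], 1),
    ([2, 7], 1),
    ([3, 8], 1),
    ([4, 9], 1),
    ([5, 0], 1),
    ([6, 1], 1),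
    ([7, 2], 1),
    ([8, 3], 1),
    ([9, 4], 1)]

/-- The relators. -/
def relWords : List (List (Fin 5 × Bool)) := [
    [(0, true), (0, true)],
    [(1, true), (1, true)],
    [(2, true), (2, true)],
    [(3, true), (3, true)],
    [(4, true), (4, true)],
    [(0, true), (1, true), (0, true), (1, true), (0, true), (1, true)],
    [(0, true), (4, true), (0, true), (4, true)],
    [(1, true), (2, true), (1, true), (2, true), (1, true), (2, true)],
    [(1, true), (3, true), (1, true), (3, true)],
    [(1, true), (4, true), (1, true), (4, true)],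
    [(0, true), (3, false), (2, false), (3, false), (2, false), (3, false), (2, false), (3, false), (2, false)],
    [(2, true), (4, true), (2, true), (4, true)],
    [(3, true), (4, true), (3, true), (4, true), (3, true), (4, true)],
    [(1, true), (2, true), (3, true), (4, true), (1, true), (2, true), (3, true), (4, true), (1, true), (2, true), (3, true), (4, true), (1, true), (2, true), (3, true), (4, true), (1, true), (2, true), (3, true), (4, true), (1, true), (2, true), (3, true), (4, true), (1, true), (2, true), (3, true), (4, true), (1, true), (2, true), (3, true), (4, true)]]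

/-- The subgroup's generators. -/
def subLetters : List (Fin 5) := []

/-- The numbering of the generators. -/
def enc (b : Fin 5) : Nat := b.val

/-- The generator of a number. -/
def dec (x : Nat) : Fin 5 × Bool := if x < 5 then (Fin.ofNat 5 x, true) else (Fin.ofNat 5 x, false)

/-- The generators among those of the Thompson group. -/
def ren : Fin 5 → Cfsg.Spor.Th.Gen
  | ⟨0, _⟩ => .a
  | ⟨1, _⟩ => .b
  | ⟨2, _⟩ => .c
  | ⟨3, _⟩ => .d
  | ⟨4, _⟩ => .e

end Cfsg.Agent.CosetCert.ThChain3
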